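import Cfsg.Agent.H375.O8.TypeA_m3
import Cfsg.Agent.H900.SU4.Base
import Cfsg.Agent.H270.Ppd.RowPsl
import Cfsg.Agent.H344.OutA
import Cfsg.Agent.Prune
set_option linter.all false
open scoped Cfsg.Agent.FastGrp

/-!
# Orders of automorphism groups and primitive primes (TEAM COV, helper975)
-/

set_option autoImplicit false
set_option linter.unusedSectionVars false

namespace Cfsg.Agent.H975.Cov

open Module QuadraticMap Cfsg Cfsg.Geo Cfsg.Agent.LieClassical.OrthCore Cfsg.Agent.H955 Cfsg.Agent.H954.TSing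
open Cfsg.Agent.H884.El
open Cfsg.Agent.H951 (fx cm Inv)
open scoped MatrixGroups Matrix

universe u v

/-! ### Primes -/

theorem pp_not_dvd_sub {q e r i : ℕ} (h : PP q e r) (hq : 1 ≤ q) (hi : ¬ e ∣ i) : ¬ r ∣ q ^ i - 1 :=
  fun h1 => hi ((h.dvd_iff hq i).1 h1)

/-- `r` does not divide `|Aut PSL₃(q)|`. -/
theorem psl_num {f q e r : ℕ} (hq : 2 ≤ q) (hr : PP q e r) (he : 4 ≤ e) (hrf : ¬ r ∣ f) :
    ¬ r ∣ 2 * (f * ∏ i ∈ Finset.range 3, (q ^ 3 - q ^ i)) := by
  have hlt := hr.lt (by omega)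
  have h2 : ¬ r ∣ 2 := fun h => by have := Nat.le_of_dvd two_pos h; omega
  have hrq := hr.not_dvd (by omega)
  rw [hr.prime.dvd_mul, hr.prime.dvd_mul, Finset.prod_range_succ, Finset.prod_range_succ, Finset.prod_range_succ,
    Finset.prod_range_zero, one_mul, hr.prime.dvd_mul, hr.prime.dvd_mul]
  have e1 : q ^ 3 - q ^ 1 = q * (q ^ 2 - 1) := by rw [Nat.mul_sub]; ring_nf
  have e2 : q ^ 3 - q ^ 2 = q ^ 2 * (q ^ 1 - 1) := by rw [Nat.mul_sub]; ring_nf
  rw [pow_zero, e1, e2, hr.prime.dvd_mul, hr.prime.dvd_mul]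
  have n3 := pp_not_dvd_sub hr (by omega) (i := 3) (fun h => by have := Nat.le_of_dvd (by omega) h; omega)
  have n2 := pp_not_dvd_sub hr (by omega) (i := 2) (fun h => by have := Nat.le_of_dvd (by omega) h; omega)
  have n1 := pp_not_dvd_sub hr (by omega) (i := 1) (fun h => by have := Nat.le_of_dvd (by omega) h; omega)
  have hq2 : ¬ r ∣ q ^ 2 := fun h => hrq (hr.prime.dvd_of_dvd_pow h)
  tauto

/-- `r` does not divide `|Aut PSU₃(q)|`. -/
theorem psu_num {f q e r : ℕ} (hq : 2 ≤ q) (hr : PP q e r) (he : 3 ≤ e) (he6 : ¬ e ∣ 6 ∨ e = 3) (hrf : ¬ r ∣ f) :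
    ¬ r ∣ f * (2 * (q ^ (3 * (3 - 1) / 2) * ∏ j ∈ Finset.range (3 - 1), (if Even j then q ^ (j + 2) - 1 else q ^ (j + 2) + 1))) := by
  have hlt := hr.lt (by omega)
  have h2 : ¬ r ∣ 2 := fun h => by have := Nat.le_of_dvd two_pos h; omega
  have hrq := hr.not_dvd (by omega)
  have e1 : (∏ j ∈ Finset.range (3 - 1), (if Even j then q ^ (j + 2) - 1 else q ^ (j + 2) + 1)) = (q ^ 2 - 1) * (q ^ 3 + 1) := by
    rw [show 3 - 1 = 2 by norm_num, Finset.prod_range_succ, Finset.prod_range_succ, Finset.prod_range_zero, one_mul]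
    rw [if_pos (by decide), if_neg (by decide)]
  rw [e1, hr.prime.dvd_mul, hr.prime.dvd_mul, hr.prime.dvd_mul, hr.prime.dvd_mul]
  have n2 := pp_not_dvd_sub hr (by omega) (i := 2) (fun h => by have := Nat.le_of_dvd (by omega) h; omega)
  have hq3 : ¬ r ∣ q ^ (3 * (3 - 1) / 2) := fun h => hrq (hr.prime.dvd_of_dvd_pow h)
  have n3 : ¬ r ∣ q ^ 3 + 1 := by
    intro h
    rcases he6 with h6 | rfl
    · apply h6
      rw [← hr.dvd_iff (by omega)]
      have h7 : q ^ 6 - 1 = (q ^ 3 + 1) * (q ^ 3 - 1) := by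
        have h8 : 1 ≤ q ^ 3 := Nat.one_le_pow _ _ (by omega)
        obtain ⟨c, hc⟩ := Nat.exists_eq_add_of_le h8
        have h9 : q ^ 6 = q ^ 3 * q ^ 3 := by ring
        rw [h9, hc, Nat.add_sub_cancel_left]
        have : (1 + c) * (1 + c) = 1 + (1 + c + 1) * c := by ring
        rw [this, Nat.add_sub_cancel_left]
      rw [h7]
      exact Dvd.dvd.mul_right h _
    · have h8 : 1 ≤ q ^ 3 := Nat.one_le_pow _ _ (by omega)
      have h9 : r ∣ q ^ 3 - 1 := (hr.dvd_iff (by omega) 3).2 dvd_rfl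
      apply h2
      have h10 := Nat.dvd_sub h h9
      have h11 : q ^ 3 + 1 - (q ^ 3 - 1) = 2 := by omega
      rwa [h11] at h10
  tauto

theorem pp_dvd_of_pow {p f e r : ℕ} (h : PP p (f * e) r) (hf : 1 ≤ f) (he : 1 ≤ e) : ¬ r ∣ f := by
  intro h1
  have h2 := h.lt (Nat.mul_pos hf he)
  have h3 := Nat.le_of_dvd hf h1
  have h4 : f * 1 ≤ f * e := Nat.mul_le_mul_left f he
  omega

/-- the prime `r₃`. -/
theorem exists_r3 {p f q : ℕ} (hp : p.Prime) (hf : 1 ≤ f) (hq : q = p ^ f) : ∃ r, PP q 3 r ∧ ¬ r ∣ f := by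
  by_cases h4 : p = 2 ∧ f = 2
  · obtain ⟨rfl, rfl⟩ := h4
    refine ⟨7, ⟨by norm_num, ?_⟩, by norm_num⟩
    have : Fact (Nat.Prime 3) := ⟨Nat.prime_three⟩
    subst hq
    exact orderOf_eq_prime (by decide) (by decide)
  · obtain ⟨r, hr⟩ := exists_pp (q := p) (e := f * 3) hp.two_le (by omega) (by
      rintro ⟨h1, h2⟩
      exact h4 ⟨h1, by omega⟩)
    refine ⟨r, ?_, pp_dvd_of_pow hr hf (by norm_num)⟩
    rw [hq]
    exact hr.of_pow hf

section Res

variable {ι : Type} [Fintype ι] [DecidableEq ι] {F : Type u} [Field F] {Q : QuadraticForm F (ι → F)}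
  {H P : Subgroup (GL ι F)}

theorem exists_ne_zero [Nonempty ι] (hQ : Nondeg Q) : ∃ v, Q v ≠ 0 := by
  by_contra hcon
  push Not at hcon
  obtain ⟨i⟩ := (inferInstance : Nonempty ι)
  have h1 := hQ (Pi.single i 1) fun w => by
    rw [polar, hcon, hcon, hcon, sub_zero, sub_zero]
  have h2 := congrFun h1 i
  rw [Pi.single_eq_same] at h2
  exact one_ne_zero h2

/-- scalar isometries of odd order are trivial. -/
theorem scalar_isom [Nonempty ι] (hQ : Nondeg Q) {z : GL ι F} (hz : z ∈ Cfsg.isometryGroup F (⇑Q))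
    (hs : z ∈ scalars ι F) {N : ℕ} (hN : Odd N) (hzN : z ^ N = 1) : z = 1 := by
  obtain ⟨v, hv⟩ := exists_ne_zero hQ
  obtain ⟨c, hc⟩ := (mem_scalars_iff z).1 hs
  have h1 := H925.mem_iso_iff.1 hz v
  rw [hc, Matrix.smul_mulVec, Matrix.one_mulVec, QuadraticMap.map_smul, smul_eq_mul] at h1
  have h2 : (c : F) * c = 1 := by
    have h3 : ((c : F) * c - 1) * Q v = 0 := by linear_combination h1
    rcases mul_eq_zero.1 h3 with h4 | h4
    · exact sub_eq_zero.1 h4
    · exact absurd h4 hv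
  have h3 : z ^ 2 = 1 := by
    apply Units.ext
    rw [pow_two, Units.val_mul, hc, smul_mul_smul_comm, h2, one_smul, one_mul, Units.val_one]
  have h4 : orderOf z ∣ 2 := orderOf_dvd_of_pow_eq_one h3
  have h5 : orderOf z ∣ N := orderOf_dvd_of_pow_eq_one hzN
  exact orderOf_eq_one_iff.1 (Nat.eq_one_of_dvd_coprimes (Nat.coprime_two_left.2 hN) h4 h5)

/-- the order of an element of odd order of a residual group divides `|Aut S|`. -/
theorem orderOf_dvd_core [Nonempty ι] [Finite F] (hQ : Nondeg Q) (h : IsResidualCore H P) (hH : H ≤ Cfsg.isometryGroup F (⇑Q))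
    {y : GL ι F} (hy : y ∈ H) (hN : Odd (orderOf y)) :
    orderOf y ∣ Nat.card (MulAut (P ⧸ (scalars ι F).subgroupOf P)) := by
  have h1 := H900.SU4.card_dvd_of_core h (Subgroup.zpowers y).subtype (fun b => by
    obtain ⟨b, k, rfl⟩ := b
    exact H.zpow_mem hy k) (fun b hb => by
    obtain ⟨b, k, rfl⟩ := b
    apply Subtype.ext
    exact scalar_isom hQ (hH (H.zpow_mem hy k)) hb hN (by
      change (y ^ k) ^ orderOf y = 1
      rw [← zpow_natCast, ← zpow_mul, mul_comm, zpow_mul, zpow_natCast, pow_orderOf_eq_one, one_zpow]))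
  rwa [Nat.card_zpowers] at h1

end Res

section Res2

variable {F : Type} [Field F] [Fintype F] {Q : QuadraticForm F (Fin 8 → F)} {H P : Subgroup (GL (Fin 8) F)}

theorem kill_psl (hQ : Nondeg Q) (h : IsResidualCore H P) (hH : H ≤ Cfsg.isometryGroup F (⇑Q))
    (e : (P ⧸ (scalars (Fin 8) F).subgroupOf P) ≃* Matrix.ProjectiveSpecialLinearGroup (Fin 3) F)
    {p f : ℕ} (hp : p.Prime) (hpf : Nat.card F = p ^ f) {y : GL (Fin 8) F} (hy : y ∈ H)
    (hN : Odd (orderOf y)) : orderOf y ∣ 2 * (f * ∏ i ∈ Finset.range 3, (Nat.card F ^ 3 - Nat.card F ^ i)) := by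
  have := Fact.mk hp
  have hch : CharP F p := by
    obtain ⟨p', hp'⟩ := CharP.exists F
    obtain ⟨n, hpp, hn⟩ := FiniteField.card F p'
    rw [Nat.card_eq_fintype_card, hn] at hpf
    have h1 : p' ∣ p ^ f := by rw [← hpf]; exact dvd_pow_self _ n.ne_zero
    have h2 : p' = p := (Nat.prime_dvd_prime_iff_eq hpp hp).1 (hpp.dvd_of_dvd_pow h1)
    rwa [h2] at hp'
  have h1 := orderOf_dvd_core hQ h hH hy hN
  rw [Nat.card_congr (MulAut.congr e).toEquiv] at h1
  have h2 := H270.Ppd.card_aut_dvd (N := 3) (r := p) (f := f) (K := F) (by rw [← Nat.card_eq_fintype_card, hpf]) le_rfl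
  rw [← Nat.card_eq_fintype_card] at h2
  exact h1.trans h2

theorem kill_psu (hQ : Nondeg Q) (h : IsResidualCore H P) (hH : H ≤ Cfsg.isometryGroup F (⇑Q))
    {K : Type} [Field K] [Fintype K] (hK : Fintype.card K = Fintype.card F ^ 2)
    (e : (P ⧸ (scalars (Fin 8) F).subgroupOf P) ≃* PSU 3 K (Fintype.card F)) (hq2 : Fintype.card F ≠ 2)
    {p f : ℕ} (hp : p.Prime) (hf : 1 ≤ f) (hpf : Nat.card F = p ^ f) {y : GL (Fin 8) F} (hy : y ∈ H)
    (hN : Odd (orderOf y)) : orderOf y ∣ f * (2 * (Nat.card F ^ (3 * (3 - 1) / 2) *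
      ∏ j ∈ Finset.range (3 - 1), (if Even j then Nat.card F ^ (j + 2) - 1 else Nat.card F ^ (j + 2) + 1))) := by
  have h1 := orderOf_dvd_core hQ h hH hy hN
  rw [Nat.card_congr (MulAut.congr e).toEquiv, H344.OutA.card_mulAut_psu hK hp hf (by rw [← Nat.card_eq_fintype_card, hpf])
    (by norm_num) (fun h => hq2 h.2), ← Nat.card_eq_fintype_card] at h1
  exact h1

end Res2

end Cfsg.Agent.H975.Cov
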